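import Cfsg.Agent.H284.EP.Basic

/-!
# S5745, tool (E_pi): counting two-point stabilisers by elements of prime order

`H` is a proper subgroup of the finite group `G`, `π` a set of primes such that the order of every `H ⊓ H^g` (`g ∉ H`) is
divisible by a prime in `π`. Then `n - 1 ≤ ∑ (F_x - 1) / (|x| - 1)`, the sum over all `x ∈ H` of prime order in `π`
(`count`), and `(n - 1) ∏ ...` (`crude`, `crude_one`).
-/

set_option autoImplicit false
set_option linter.unusedSectionVars false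

namespace Cfsg.Agent.H534.EPX

open MulAction Subgroup Cfsg.Agent.H284

variable {G : Type*} [Group G]

/-- the number of fixed points of `x` on `G / H` -/
noncomputable def fx (H : Subgroup G) (x : G) : ℕ := Nat.card (fixedBy (G ⧸ H) x)

theorem mem_fixedBy_mk {H : Subgroup G} {x g : G} : ((g : G ⧸ H)) ∈ fixedBy (G ⧸ H) x ↔ x ∈ cj g H := by
  rw [mem_fixedBy, mem_cj, MulAction.Quotient.smul_coe, smul_eq_mul, QuotientGroup.eq]
  constructor
  · intro h
    have := inv_mem h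
    rwa [show ((x * g)⁻¹ * g)⁻¹ = g⁻¹ * x * g by group] at this
  · intro h
    have := inv_mem h
    rwa [show (g⁻¹ * x * g)⁻¹ = (x * g)⁻¹ * g by group] at this

/-- `|F_x| |H| = #{g : x ∈ H^g}` -/
theorem fx_mul [Finite G] (H : Subgroup G) (x : G) : fx H x * Nat.card H = {g : G | x ∈ cj g H}.ncard := by
  classical
  have e : {g : G | x ∈ cj g H} = (QuotientGroup.mk : G → G ⧸ H) ⁻¹' (fixedBy (G ⧸ H) x) := by
    ext g
    rw [Set.mem_preimage, mem_fixedBy_mk]
    rfl
  rw [e, ← Nat.card_coe_set_eq]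
  have h1 : Nat.card ((QuotientGroup.mk : G → G ⧸ H) ⁻¹' (fixedBy (G ⧸ H) x)) =
      Nat.card (H × (fixedBy (G ⧸ H) x)) :=
    Nat.card_congr (QuotientGroup.preimageMkEquivSubgroupProdSet H _)
  rw [h1, Nat.card_prod, mul_comm]
  rfl

/-- `F_x |x^G| = n |x^G ∩ H|` -/
theorem fx_class [Finite G] (H : Subgroup G) (x : G) :
    fx H x * {y : G | IsConj x y}.ncard = H.index * {y : G | IsConj x y ∧ y ∈ H}.ncard := by
  classical
  have hC : 0 < Nat.card H := Nat.card_pos
  apply Nat.eq_of_mul_eq_mul_right hC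
  -- `#{g : x ∈ H^g} = |C(x)| |x^G ∩ H|`
  have h1 : {g : G | x ∈ cj g H}.ncard =
      Nat.card (Subgroup.centralizer ({x} : Set G)) * {y : G | IsConj x y ∧ y ∈ H}.ncard := by
    let f : {g : G | x ∈ cj g H} → {y : G | IsConj x y ∧ y ∈ H} := fun g =>
      ⟨(g : G)⁻¹ * x * g, isConj_iff.2 ⟨(g : G)⁻¹, by rw [inv_inv]⟩, mem_cj.1 g.2⟩
    have hf : ∀ y, Nat.card {g // f g = y} = Nat.card (Subgroup.centralizer ({x} : Set G)) := by
      rintro ⟨y, hy, hyH⟩
      obtain ⟨c, hc⟩ := isConj_iff.1 hy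
      -- c x c⁻¹ = y
      refine Nat.card_congr
        { toFun := fun g => ⟨(g.1 : G) * c, ?_⟩
          invFun := fun z => ⟨⟨(z : G) * c⁻¹, ?_⟩, ?_⟩
          left_inv := fun g => by
            apply Subtype.ext
            apply Subtype.ext
            simp
          right_inv := fun z => by
            apply Subtype.ext
            simp }
      · have h2 : (g.1 : G)⁻¹ * x * g.1 = y := congrArg Subtype.val g.2
        rw [Subgroup.mem_centralizer_singleton_iff]
        have h3 : x * g.1 = g.1 * (c * x * c⁻¹) := by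
          rw [hc]
          rwa [mul_assoc, inv_mul_eq_iff_eq_mul] at h2
        calc (g.1 : G) * c * x = g.1 * (c * x * c⁻¹) * c := by group
          _ = x * g.1 * c := by rw [← h3]
          _ = x * (g.1 * c) := by group
      · change x ∈ cj ((z : G) * c⁻¹) H
        rw [mem_cj]
        have h2 := Subgroup.mem_centralizer_singleton_iff.1 z.2
        have h3 : ((z : G) * c⁻¹)⁻¹ * x * (z * c⁻¹) = y := by
          rw [← hc]
          calc ((z : G) * c⁻¹)⁻¹ * x * (z * c⁻¹) = c * ((z : G)⁻¹ * (x * z)) * c⁻¹ := by group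
            _ = c * ((z : G)⁻¹ * (z * x)) * c⁻¹ := by rw [h2]
            _ = c * x * c⁻¹ := by group
        rw [h3]
        exact hyH
      · apply Subtype.ext
        change ((z : G) * c⁻¹)⁻¹ * x * (z * c⁻¹) = y
        have h2 := Subgroup.mem_centralizer_singleton_iff.1 z.2
        rw [← hc]
        calc ((z : G) * c⁻¹)⁻¹ * x * (z * c⁻¹) = c * ((z : G)⁻¹ * (x * z)) * c⁻¹ := by group
          _ = c * ((z : G)⁻¹ * (z * x)) * c⁻¹ := by rw [h2]
          _ = c * x * c⁻¹ := by group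
    have h2 : Nat.card {g : G | x ∈ cj g H} = ∑ᶠ y, Nat.card {g // f g = y} := by
      have := Fintype.ofFinite {g : G | x ∈ cj g H}
      have := Fintype.ofFinite {y : G | IsConj x y ∧ y ∈ H}
      rw [finsum_eq_sum_of_fintype, ← Nat.card_sigma]
      exact Nat.card_congr (Equiv.sigmaFiberEquiv f).symm
    rw [← Nat.card_coe_set_eq, h2]
    have := Fintype.ofFinite {y : G | IsConj x y ∧ y ∈ H}
    rw [finsum_eq_sum_of_fintype, Finset.sum_congr rfl (fun y _ => hf y), Finset.sum_const, Finset.card_univ,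
      ← Nat.card_eq_fintype_card, Nat.card_coe_set_eq, smul_eq_mul, mul_comm]
  have h3 : {y : G | IsConj x y}.ncard * Nat.card (Subgroup.centralizer ({x} : Set G)) = Nat.card G := by
    rw [← Subgroup.index_mul_card (Subgroup.centralizer ({x} : Set G))]
    congr 1
    have h4 : {y : G | IsConj x y} = ConjClasses.carrier (ConjClasses.mk x) := by
      ext y
      rw [ConjClasses.mem_carrier_iff_mk_eq, ConjClasses.mk_eq_mk_iff_isConj]
      exact isConj_comm
    rw [h4, ← Nat.card_coe_set_eq]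
    have h5 := Subgroup.nat_card_centralizer_nat_card_stabilizer x
    have h6 := ConjAct.orbit_eq_carrier_conjClasses x
    rw [← h6]
    have h7 := MulAction.index_stabilizer (ConjAct G) x
    rw [Nat.card_coe_set_eq, ← h7]
    have h8 : (stabilizer (ConjAct G) x).index * Nat.card (stabilizer (ConjAct G) x) = Nat.card G :=
      Subgroup.index_mul_card _
    have h9 := Subgroup.index_mul_card (Subgroup.centralizer ({x} : Set G))
    have hpos : 0 < Nat.card (Subgroup.centralizer ({x} : Set G)) := Nat.card_pos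
    rw [← h5] at h8
    exact Nat.eq_of_mul_eq_mul_right hpos (h8.trans h9.symm)
  calc fx H x * {y : G | IsConj x y}.ncard * Nat.card H = (fx H x * Nat.card H) * {y : G | IsConj x y}.ncard := by ring
    _ = {y : G | IsConj x y}.ncard * Nat.card (Subgroup.centralizer ({x} : Set G)) * {y : G | IsConj x y ∧ y ∈ H}.ncard := by
        rw [fx_mul, h1]; ring
    _ = Nat.card G * {y : G | IsConj x y ∧ y ∈ H}.ncard := by rw [h3]
    _ = _ := by rw [← Subgroup.index_mul_card H]; ring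

/-! ### The count -/

/-- the elements of `H` of prime order in `π` -/
noncomputable def prs [Finite G] (π : Set ℕ) (H : Subgroup G) : Finset G :=
  (Set.toFinite {x : G | x ∈ H ∧ (orderOf x).Prime ∧ orderOf x ∈ π}).toFinset

theorem mem_prs [Finite G] {π : Set ℕ} {H : Subgroup G} {x : G} :
    x ∈ prs π H ↔ x ∈ H ∧ (orderOf x).Prime ∧ orderOf x ∈ π := by
  rw [prs, Set.Finite.mem_toFinset]
  rfl

open Classical in
/-- a subgroup whose order is divisible by a prime in `π` -/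
theorem one_le_sum [Finite G] {π : Set ℕ} {H : Subgroup G} (M : Subgroup G) (hMH : M ≤ H)
    (hM : ∃ r ∈ π, r.Prime ∧ r ∣ Nat.card M) :
    (1 : ℚ) ≤ ∑ x ∈ prs π H, if x ∈ M then (1 : ℚ) / (orderOf x - 1) else 0 := by
  obtain ⟨r, hrπ, hr, hrM⟩ := hM
  have := Fact.mk hr
  obtain ⟨y, hy⟩ := exists_prime_orderOf_dvd_card' r hrM
  have hy' : orderOf (y : G) = r := by rw [← hy]; exact Subgroup.orderOf_coe y
  have hpow : ∀ i ∈ Finset.Ico 1 r, orderOf ((y : G) ^ i) = r := by
    intro i hi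
    rw [Finset.mem_Ico] at hi
    rw [orderOf_pow' _ (by omega), hy', Nat.coprime_of_lt_prime (by omega) hi.2 hr, Nat.div_one]
  have hinj : Set.InjOn (fun i => (y : G) ^ i) (Finset.Ico 1 r : Finset ℕ) := by
    intro i hi j hj hij
    rw [Finset.coe_Ico, Set.mem_Ico] at hi hj
    exact pow_injOn_Iio_orderOf (by rw [Set.mem_Iio, hy']; exact hi.2) (by rw [Set.mem_Iio, hy']; exact hj.2) hij
  have h1 : (1 : ℚ) < r := by exact_mod_cast hr.one_lt
  have h2 : (1 : ℚ) = ∑ x ∈ (Finset.Ico 1 r).image (fun i => (y : G) ^ i), (1 : ℚ) / (r - 1) := by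
    rw [Finset.sum_image (fun i hi j hj h => hinj (Finset.mem_coe.2 hi) (Finset.mem_coe.2 hj) h), Finset.sum_const,
      Nat.card_Ico, nsmul_eq_mul, Nat.cast_sub hr.one_lt.le, Nat.cast_one]
    rw [mul_one_div_cancel]
    linarith
  calc (1 : ℚ) = ∑ x ∈ (Finset.Ico 1 r).image (fun i => (y : G) ^ i), (1 : ℚ) / (r - 1) := h2
    _ = ∑ x ∈ (Finset.Ico 1 r).image (fun i => (y : G) ^ i), if x ∈ M then (1 : ℚ) / (orderOf x - 1) else 0 := by
        refine Finset.sum_congr rfl fun x hx => ?_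
        obtain ⟨i, hi, rfl⟩ := Finset.mem_image.1 hx
        rw [if_pos (M.pow_mem y.2 i), hpow i hi]
    _ ≤ _ := by
        refine Finset.sum_le_sum_of_subset_of_nonneg ?_ ?_
        · intro x hx
          obtain ⟨i, hi, rfl⟩ := Finset.mem_image.1 hx
          rw [mem_prs, hpow i hi]
          exact ⟨hMH (M.pow_mem y.2 i), hr, hrπ⟩
        · intro x hx _
          have h3 : (1 : ℚ) < orderOf x := by exact_mod_cast (mem_prs.1 hx).2.1.one_lt
          split_ifs
          · apply div_nonneg zero_le_one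
            linarith
          · exact le_rfl

/-- **(E_pi)**: `n - 1 ≤ ∑ (F_x - 1) / (|x| - 1)`. -/
theorem count [Finite G] {π : Set ℕ} {H : Subgroup G}
    (hπ : ∀ g ∉ H, ∃ r ∈ π, r.Prime ∧ r ∣ Nat.card (H ⊓ cj g H : Subgroup G)) :
    (H.index : ℚ) - 1 ≤ ∑ x ∈ prs π H, ((fx H x : ℚ) - 1) / (orderOf x - 1) := by
  classical
  have := Fintype.ofFinite (G ⧸ H)
  let a : G ⧸ H := ((1 : G) : G ⧸ H)
  -- the two-point stabilisers
  have h1 : ∀ b ∈ (Finset.univ.erase a : Finset (G ⧸ H)),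
      (1 : ℚ) ≤ ∑ x ∈ prs π H, if b ∈ fixedBy (G ⧸ H) x then (1 : ℚ) / (orderOf x - 1) else 0 := by
    intro b hb
    obtain ⟨g, rfl⟩ := QuotientGroup.mk_surjective b
    have hg : g ∉ H := by
      intro hg
      apply (Finset.mem_erase.1 hb).1
      change ((g : G ⧸ H)) = ((1 : G) : G ⧸ H)
      rw [eq_comm, QuotientGroup.eq, inv_one, one_mul]
      exact hg
    refine (one_le_sum (π := π) (H := H) (H ⊓ cj g H) inf_le_left (hπ g hg)).trans (le_of_eq ?_)
    refine Finset.sum_congr rfl fun x hx => ?_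
    have hxH := (mem_prs.1 hx).1
    by_cases h : x ∈ cj g H
    · rw [if_pos (mem_inf.2 ⟨hxH, h⟩), if_pos (mem_fixedBy_mk.2 h)]
    · rw [if_neg (fun e => h (mem_inf.1 e).2), if_neg (fun e => h (mem_fixedBy_mk.1 e))]
  have h2 : (H.index : ℚ) - 1 = ∑ b ∈ (Finset.univ.erase a : Finset (G ⧸ H)), (1 : ℚ) := by
    rw [Finset.sum_const, Finset.card_erase_of_mem (Finset.mem_univ _), Finset.card_univ, nsmul_eq_mul, mul_one,
      Nat.cast_sub (Fintype.card_pos_iff.2 ⟨a⟩), Nat.cast_one, ← Nat.card_eq_fintype_card]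
    rfl
  rw [h2]
  refine (Finset.sum_le_sum h1).trans (le_of_eq ?_)
  rw [Finset.sum_comm]
  refine Finset.sum_congr rfl fun x hx => ?_
  have hxH := (mem_prs.1 hx).1
  rw [← Finset.sum_filter, Finset.sum_const, nsmul_eq_mul, mul_one_div]
  congr 1
  have h3 : a ∈ fixedBy (G ⧸ H) x := by
    rw [mem_fixedBy_mk, cj_one]
    exact hxH
  have h4 : Finset.filter (fun b => b ∈ fixedBy (G ⧸ H) x) (Finset.univ.erase a) =
      (Finset.univ.filter fun b => b ∈ fixedBy (G ⧸ H) x).erase a := by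
    rw [Finset.filter_erase]
  have h5 : (Finset.univ.filter fun b => b ∈ fixedBy (G ⧸ H) x).card = fx H x := by
    rw [fx, Nat.card_eq_fintype_card, Fintype.card_subtype]
  rw [h4, Finset.card_erase_of_mem (Finset.mem_filter.2 ⟨Finset.mem_univ _, h3⟩), h5, Nat.cast_sub, Nat.cast_one]
  rw [← h5]
  exact Finset.card_pos.2 ⟨a, Finset.mem_filter.2 ⟨Finset.mem_univ _, h3⟩⟩

/-! ### Crude forms -/

/-- the number of elements of order `r` in `H` -/
noncomputable def nr [Finite G] (H : Subgroup G) (r : ℕ) : ℕ := {y : G | y ∈ H ∧ orderOf y = r}.ncard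

theorem orderOf_eq_of_isConj {x y : G} (h : IsConj x y) : orderOf y = orderOf x := by
  obtain ⟨c, rfl⟩ := isConj_iff.1 h
  exact orderOf_injective (MulAut.conj c).toMonoidHom (MulAut.conj c).injective x

theorem fx_le [Finite G] {H : Subgroup G} {x : G} {c : ℚ} (hc : 0 < c)
    (h : c ≤ ({y : G | IsConj x y}.ncard : ℚ)) : (fx H x : ℚ) ≤ H.index * nr H (orderOf x) / c := by
  rw [le_div_iff₀ hc]
  have h1 : (fx H x : ℚ) * {y : G | IsConj x y}.ncard = H.index * {y : G | IsConj x y ∧ y ∈ H}.ncard := by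
    exact_mod_cast fx_class H x
  have h2 : {y : G | IsConj x y ∧ y ∈ H}.ncard ≤ nr H (orderOf x) :=
    Set.ncard_le_ncard (fun y hy => ⟨hy.2, orderOf_eq_of_isConj hy.1⟩) (Set.toFinite _)
  calc (fx H x : ℚ) * c ≤ fx H x * {y : G | IsConj x y}.ncard :=
        mul_le_mul_of_nonneg_left h (Nat.cast_nonneg _)
    _ = H.index * {y : G | IsConj x y ∧ y ∈ H}.ncard := h1
    _ ≤ _ := mul_le_mul_of_nonneg_left (by exact_mod_cast h2) (Nat.cast_nonneg _)

/-- **crude form with classes**: `n - 1 ≤ n ∑_{x} N_{|x|} / ((|x| - 1) c_x)` if `|x^G| ≥ c_x`. -/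
theorem crude [Finite G] {π : Set ℕ} {H : Subgroup G}
    (hπ : ∀ g ∉ H, ∃ r ∈ π, r.Prime ∧ r ∣ Nat.card (H ⊓ cj g H : Subgroup G)) (c : ℕ → ℚ)
    (hc0 : ∀ r ∈ π, r.Prime → 0 < c r) (hc : ∀ x ∈ prs π H, c (orderOf x) ≤ ({y : G | IsConj x y}.ncard : ℚ)) :
    (H.index : ℚ) - 1 ≤ H.index * ∑ x ∈ prs π H, (nr H (orderOf x) : ℚ) / ((orderOf x - 1) * c (orderOf x)) := by
  refine (count hπ).trans ?_
  rw [Finset.mul_sum]
  refine Finset.sum_le_sum fun x hx => ?_
  obtain ⟨-, h1, h2⟩ := mem_prs.1 hx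
  have h3 := fx_le (H := H) (hc0 _ h2 h1) (hc x hx)
  have h4 : (0 : ℚ) < (orderOf x : ℚ) - 1 := by
    have : (1 : ℚ) < orderOf x := by exact_mod_cast h1.one_lt
    linarith
  have h5 : (0 : ℚ) < c (orderOf x) := hc0 _ h2 h1
  calc ((fx H x : ℚ) - 1) / (orderOf x - 1) ≤ (fx H x : ℚ) / (orderOf x - 1) := by
        apply div_le_div_of_nonneg_right _ h4.le
        linarith
    _ ≤ (H.index * nr H (orderOf x) / c (orderOf x)) / (orderOf x - 1) := div_le_div_of_nonneg_right h3 h4.le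
    _ = _ := by
        field_simp

/-- summed over the primes: `n - 1 ≤ n ∑_r N_r² / ((r - 1) c_r)`, `R` a finite set containing the primes in `π` which
divide `|H|`. -/
theorem crude_sum [Finite G] {π : Set ℕ} {H : Subgroup G}
    (hπ : ∀ g ∉ H, ∃ r ∈ π, r.Prime ∧ r ∣ Nat.card (H ⊓ cj g H : Subgroup G)) (c : ℕ → ℚ)
    (hc0 : ∀ r ∈ π, r.Prime → 0 < c r) (hc : ∀ x ∈ prs π H, c (orderOf x) ≤ ({y : G | IsConj x y}.ncard : ℚ))
    (R : Finset ℕ) (hR : ∀ r ∈ π, r.Prime → r ∣ Nat.card H → r ∈ R) (hRπ : ∀ r ∈ R, r ∈ π ∧ r.Prime) :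
    (H.index : ℚ) - 1 ≤ H.index * ∑ r ∈ R, (nr H r : ℚ) ^ 2 / ((r - 1) * c r) := by
  classical
  refine (crude hπ c hc0 hc).trans (le_of_eq ?_)
  congr 1
  have h1 : ∀ x ∈ prs π H, orderOf x ∈ R := fun x hx => by
    obtain ⟨h1, h2, h3⟩ := mem_prs.1 hx
    refine hR _ h3 h2 ?_
    have := _root_.orderOf_dvd_natCard (⟨x, h1⟩ : H)
    rwa [← Subgroup.orderOf_coe] at this
  rw [← Finset.sum_fiberwise_of_maps_to h1]
  refine Finset.sum_congr rfl fun r hr => ?_
  obtain ⟨hrπ, hrp⟩ := hRπ r hr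
  have h2 : ((prs π H).filter fun x => orderOf x = r).card = nr H r := by
    rw [nr, Set.ncard_eq_toFinset_card _ (Set.toFinite _)]
    congr 1
    ext x
    rw [Finset.mem_filter, mem_prs, Set.Finite.mem_toFinset]
    constructor
    · rintro ⟨⟨h3, -⟩, h4⟩
      exact ⟨h3, h4⟩
    · rintro ⟨h3, h4⟩
      exact ⟨⟨h3, by rw [h4]; exact hrp, by rw [h4]; exact hrπ⟩, h4⟩
  rw [Finset.sum_congr rfl (fun x hx => by rw [(Finset.mem_filter.1 hx).2]), Finset.sum_const, h2, nsmul_eq_mul]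
  ring

theorem card_prs_le [Finite G] (π : Set ℕ) (H : Subgroup G) : (prs π H).card ≤ Nat.card H - 1 := by
  classical
  have h1 : (prs π H).card ≤ ((H : Set G) \ {1}).ncard := by
    rw [prs, ← Set.ncard_eq_toFinset_card]
    refine Set.ncard_le_ncard (fun x hx => ⟨hx.1, ?_⟩) (Set.toFinite _)
    rintro rfl
    have h2 := hx.2.1
    rw [orderOf_one] at h2
    exact Nat.not_prime_one h2
  rwa [Set.ncard_sdiff_singleton_of_mem (one_mem H), ← Nat.card_coe_set_eq] at h1

/-- **one constant**: `c (n - 1) ≤ n N²`, `N` the number of elements of `H` of prime order in `π`, if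
`c ≤ (|x| - 1) |x^G|` for all these `x`. -/
theorem crude_one [Finite G] {π : Set ℕ} {H : Subgroup G}
    (hπ : ∀ g ∉ H, ∃ r ∈ π, r.Prime ∧ r ∣ Nat.card (H ⊓ cj g H : Subgroup G)) (c : ℕ)
    (hc : ∀ x ∈ prs π H, c ≤ (orderOf x - 1) * {y : G | IsConj x y}.ncard) :
    c * (H.index - 1) ≤ H.index * (prs π H).card ^ 2 := by
  have hn : 0 < H.index := Nat.pos_of_ne_zero Subgroup.index_ne_zero_of_finite
  have key : ∀ x ∈ prs π H, (c : ℚ) * (((fx H x : ℚ) - 1) / (orderOf x - 1)) ≤ H.index * (prs π H).card := by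
    intro x hx
    obtain ⟨-, h1, h2⟩ := mem_prs.1 hx
    have h4 : (0 : ℚ) < (orderOf x : ℚ) - 1 := by
      have : (1 : ℚ) < orderOf x := by exact_mod_cast h1.one_lt
      linarith
    have h5 : (c : ℚ) ≤ (orderOf x - 1) * {y : G | IsConj x y}.ncard := by
      have := hc x hx
      have h6 : ((c : ℕ) : ℚ) ≤ (((orderOf x - 1) * {y : G | IsConj x y}.ncard : ℕ) : ℚ) := by exact_mod_cast this
      rwa [Nat.cast_mul, Nat.cast_sub h1.one_lt.le, Nat.cast_one] at h6
    have h6 : (fx H x : ℚ) * {y : G | IsConj x y}.ncard = H.index * {y : G | IsConj x y ∧ y ∈ H}.ncard := by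
      exact_mod_cast fx_class H x
    have h7 : {y : G | IsConj x y ∧ y ∈ H}.ncard ≤ (prs π H).card := by
      rw [prs, ← Set.ncard_eq_toFinset_card]
      refine Set.ncard_le_ncard (fun y hy => ⟨hy.2, ?_, ?_⟩) (Set.toFinite _)
      · rw [orderOf_eq_of_isConj hy.1]; exact h1
      · rw [orderOf_eq_of_isConj hy.1]; exact h2
    calc (c : ℚ) * (((fx H x : ℚ) - 1) / (orderOf x - 1)) ≤ (c : ℚ) * ((fx H x : ℚ) / (orderOf x - 1)) := by
          apply mul_le_mul_of_nonneg_left _ (Nat.cast_nonneg _)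
          apply div_le_div_of_nonneg_right _ h4.le
          linarith
      _ ≤ ((orderOf x - 1) * {y : G | IsConj x y}.ncard) * ((fx H x : ℚ) / (orderOf x - 1)) :=
          mul_le_mul_of_nonneg_right h5 (div_nonneg (Nat.cast_nonneg _) h4.le)
      _ = (fx H x : ℚ) * {y : G | IsConj x y}.ncard := by
          field_simp
      _ = H.index * {y : G | IsConj x y ∧ y ∈ H}.ncard := h6
      _ ≤ _ := mul_le_mul_of_nonneg_left (by exact_mod_cast h7) (Nat.cast_nonneg _)
  have h1 : (c : ℚ) * ((H.index : ℚ) - 1) ≤ H.index * (prs π H).card ^ 2 := by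
    calc (c : ℚ) * ((H.index : ℚ) - 1) ≤ c * ∑ x ∈ prs π H, ((fx H x : ℚ) - 1) / (orderOf x - 1) :=
          mul_le_mul_of_nonneg_left (count hπ) (Nat.cast_nonneg _)
      _ = ∑ x ∈ prs π H, (c : ℚ) * (((fx H x : ℚ) - 1) / (orderOf x - 1)) := by rw [Finset.mul_sum]
      _ ≤ ∑ x ∈ prs π H, (H.index : ℚ) * (prs π H).card := Finset.sum_le_sum key
      _ = _ := by rw [Finset.sum_const, nsmul_eq_mul]; ring
  have h2 : ((c * (H.index - 1) : ℕ) : ℚ) ≤ ((H.index * (prs π H).card ^ 2 : ℕ) : ℚ) := by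
    rw [Nat.cast_mul, Nat.cast_sub hn, Nat.cast_one, Nat.cast_mul, Nat.cast_pow]
    exact h1
  exact_mod_cast h2

/-- `c (n - 1) < n |H|²` -/
theorem crude_two [Finite G] {π : Set ℕ} {H : Subgroup G}
    (hπ : ∀ g ∉ H, ∃ r ∈ π, r.Prime ∧ r ∣ Nat.card (H ⊓ cj g H : Subgroup G)) (c : ℕ)
    (hc : ∀ x ∈ prs π H, c ≤ (orderOf x - 1) * {y : G | IsConj x y}.ncard) :
    c * (H.index - 1) ≤ H.index * (Nat.card H - 1) ^ 2 :=
  (crude_one hπ c hc).trans (Nat.mul_le_mul_left _ (Nat.pow_le_pow_left (card_prs_le π H) 2))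

end Cfsg.Agent.H534.EPX
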